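import Groth.Prelude.Def_ResolveSeq
import Groth.Agent.S7359
import Groth.Agent.S9690
import Groth.Agent.Lib.CurveBlowUp32.Main
import Groth.Agent.Lib.CurveBlowUp32.Cartier
import Groth.Agent.Lib.NormFin18.Birational
import Groth.Agent.Lib.PointBlowUp32.Dominate
import Groth.Agent.Lib.HTop26.AlmostBlowUp

/-!
# Normalized blowing ups in closed points: the steps
-/

set_option autoImplicit false
set_option linter.style.haveILetI false
set_option linter.unusedSectionVars false
set_option backward.isDefEq.respectTransparency false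
set_option maxHeartbeats 1000000

universe u

open CategoryTheory CategoryTheory.Limits AlgebraicGeometry TopologicalSpace

noncomputable section

namespace Groth.Agent.NormBlow

open PointBlowUp

/-- A modification of `N` by normalized point blowups. -/
structure Mdl (N : Scheme.{u}) where
  Z : Scheme.{u}
  g : Z ⟶ N
  seq : Resolve.IsNormPtBlowupSeq g
  integral : IsIntegral Z
  normal : Pi1.IsNormalScheme Z
  nagata : ∀ U : Z.affineOpens, CAlg.IsNagata Γ(Z, U.1)
  proper : IsProper g
  birational : ∃ V : N.Opens, (V : Set N).Nonempty ∧ IsIso (g ∣_ V)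
  /-- regular curves in general position lift -/
  lifts : ∀ [IsIntegral N] (T : Scheme.{u}) [IsIntegral T] [IsLocallyNoetherian T], Pi1.IsNormalScheme T →
    (∀ t : T, IsPrincipalIdealRing (T.presheaf.stalk t)) → ∀ τ0 : T ⟶ N, τ0 (genericPoint T) = genericPoint N →
    ∃ τ : T ⟶ Z, τ ≫ g = τ0

variable {N : Scheme.{u}}

theorem isIso_restrict_iso {X Y : Scheme.{u}} (f : X ⟶ Y) [IsIso f] (V : Y.Opens) : IsIso (f ∣_ V) :=
  IsZariskiLocalAtTarget.restrict (P := MorphismProperty.isomorphisms Scheme) (inferInstanceAs (IsIso f)) V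

/-- The trivial modification. -/
def Mdl.refl [IsIntegral N] (hn : Pi1.IsNormalScheme N) (hN : ∀ U : N.affineOpens, CAlg.IsNagata Γ(N, U.1)) :
    Mdl N where
  Z := N
  g := (Iso.refl N).hom
  seq := Resolve.IsNormPtBlowupSeq.iso _
  integral := inferInstance
  normal := hn
  nagata := hN
  proper := inferInstance
  birational := ⟨⊤, ⟨genericPoint N, trivial⟩, isIso_restrict_iso _ ⊤⟩
  lifts := fun T _ _ _ _ τ0 _ => ⟨τ0, Category.comp_id τ0⟩

theorem Mdl.locallyNoetherian (M : Mdl N) : IsLocallyNoetherian M.Z := ⟨fun U => (M.nagata U).1⟩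

/-- A birational morphism sends the generic point to the generic point. -/
theorem map_generic {X Y : Scheme.{u}} [IsIntegral X] [IsIntegral Y] (f : X ⟶ Y) {V : Y.Opens}
    (hV : (V : Set Y).Nonempty) [IsIso (f ∣_ V)] : f (genericPoint X) = genericPoint Y := by
  obtain ⟨a, ha⟩ := (f ∣_ V).surjective ⟨_, CurveBlowUp.generic_mem hV⟩
  have hra : f ((f ⁻¹ᵁ V).ι a) = genericPoint Y := by
    rw [← Scheme.Hom.comp_apply, ← morphismRestrict_ι, Scheme.Hom.comp_apply, ha]; rfl
  have hs : f (genericPoint X) ⤳ f ((f ⁻¹ᵁ V).ι a) := (genericPoint_specializes _).map f.continuous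
  rw [hra] at hs
  exact (hs.antisymm (genericPoint_specializes _)).eq

/-- Only the generic point lies over the generic point. -/
theorem eq_generic {X Y : Scheme.{u}} [IsIntegral X] [IsIntegral Y] (f : X ⟶ Y) {V : Y.Opens}
    (hV : (V : Set Y).Nonempty) [IsIso (f ∣_ V)] {x : X} (hx : f x = genericPoint Y) : x = genericPoint X :=
  PointBlowUp.eq_of_restrict f V (hx ▸ CurveBlowUp.generic_mem hV) (hx.trans (map_generic f hV).symm)

theorem Mdl.map_generic (M : Mdl N) [IsIntegral N] :
    haveI := M.integral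
    M.g (genericPoint M.Z) = genericPoint N := by
  obtain ⟨V, hV, hiso⟩ := M.birational
  haveI := M.integral; haveI := hiso
  exact NormBlow.map_generic M.g hV

theorem Mdl.eq_generic (M : Mdl N) [IsIntegral N] {x : M.Z} (hx : M.g x = genericPoint N) :
    haveI := M.integral
    x = genericPoint M.Z := by
  obtain ⟨V, hV, hiso⟩ := M.birational
  haveI := M.integral; haveI := hiso
  exact NormBlow.eq_generic M.g hV hx

/-- The normalized blowing up in a closed point, with its lifting property. -/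
theorem exists_step [IsIntegral N] (M : Mdl N) (z : M.Z) (hz : IsClosed ({z} : Set M.Z))
    (hcl : IsClosed ({M.g z} : Set N)) (hne : M.g z ≠ genericPoint N) :
    ∃ (M' : Mdl N) (π : M'.Z ⟶ M.Z), π ≫ M.g = M'.g ∧ HTop.IsLocPrincipal ((ptIdeal hz).comap π) ∧
      ∀ (T : Scheme.{u}) [IsIntegral T], Pi1.IsNormalScheme T → ∀ τ : T ⟶ M.Z,
        M.g (τ (genericPoint T)) = genericPoint N → BlowUp.IsEffCartierIdeal ((ptIdeal hz).comap τ) →
        ∃ τ' : T ⟶ M'.Z, τ' ≫ π = τ := by
  haveI := M.integral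
  haveI := M.locallyNoetherian
  haveI := M.proper
  obtain ⟨X, b, hb⟩ : ∃ (X : Scheme.{u}) (b : X ⟶ M.Z), BlowUp.IsBlowUp b (ptIdeal hz) :=
    ⟨_, _, BlowUpExist.ChartIdx.isBlowUp_blowUpHom (C := ptIdeal hz)⟩
  haveI := PointBlowUp.isProper hz hb
  haveI := PointBlowUp.isIso_restrict hz hb
  obtain ⟨V, hV, hiso⟩ := M.birational
  haveI := hiso
  let U : N.Opens := V ⊓ ⟨{M.g z}ᶜ, hcl.isOpen_compl⟩
  have hU : (U : Set N).Nonempty := ⟨genericPoint N, CurveBlowUp.generic_mem hV, fun h => hne h.symm⟩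
  have hle : M.g ⁻¹ᵁ U ≤ (⟨{z}ᶜ, hz.isOpen_compl⟩ : M.Z.Opens) := fun w hw e =>
    hw.2 (by rw [show w = z from e]; rfl)
  haveI : IsIso (b ∣_ (M.g ⁻¹ᵁ U)) := CurveBlowUp.isIso_restrict_of_le b hle
  haveI : IsIso (M.g ∣_ U) := CurveBlowUp.isIso_restrict_of_le M.g inf_le_left
  haveI h3 : IsIso ((b ≫ M.g) ∣_ U) := by rw [morphismRestrict_comp]; infer_instance
  haveI : Nonempty X := by
    obtain ⟨a, -⟩ := ((b ≫ M.g) ∣_ U).surjective ⟨_, hU.some_mem⟩
    exact ⟨((b ≫ M.g) ⁻¹ᵁ U).ι a⟩
  obtain ⟨hX, -⟩ := BlowUpFib6.isIntegral_of_isBlowUp hb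
  haveI := hX
  haveI : IsLocallyNoetherian X := LocallyOfFiniteType.isLocallyNoetherian b
  haveI : QuasiCompact (X.fromSpecStalk (genericPoint X)) := inferInstance
  haveI : QuasiSeparated (X.fromSpecStalk (genericPoint X)) := inferInstance
  obtain ⟨hnorm, hnag, hprop⟩ := S7359.result M.Z M.nagata z hz X b hb
  haveI := hprop
  haveI : IsProper (Curv2.normalizationι X) := IsProper.of_comp (Curv2.normalizationι X) b
  have hid : X.fromSpecStalk (genericPoint X) =
      Spec.map (CommRingCat.ofHom (RingHom.id X.functionField)) ≫ X.fromSpecStalk (genericPoint X) := by simp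
  haveI hI : IsIntegral (Curv2.normalization X) := (CurveNF.isIntegral_and_normal (K := X.functionField) hid).1
  haveI hfin : IsFinite (X.fromSpecStalk (genericPoint X)).fromNormalization := by
    haveI : LocallyOfFiniteType (X.fromSpecStalk (genericPoint X)).fromNormalization :=
      inferInstanceAs (LocallyOfFiniteType (Curv2.normalizationι X))
    exact (IsFinite.iff_isIntegralHom_and_locallyOfFiniteType _).2 ⟨inferInstance, inferInstance⟩
  obtain ⟨W, hW, hWiso⟩ := NormFin18.exists_isIso_restrict (X := X) hid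
  have hWc : IsClosed ((b ≫ M.g) '' (W : Set X)ᶜ) := (b ≫ M.g).isClosedMap _ W.isOpen.isClosed_compl
  let V' : N.Opens := U ⊓ ⟨((b ≫ M.g) '' (W : Set X)ᶜ)ᶜ, hWc.isOpen_compl⟩
  have hV' : (V' : Set N).Nonempty := by
    refine ⟨genericPoint N, CurveBlowUp.generic_mem hU, ?_⟩
    rintro ⟨x, hx, hxη⟩
    refine hx ?_
    rw [eq_generic (b ≫ M.g) hU hxη]
    exact CurveBlowUp.generic_mem hW
  haveI hiso' : IsIso ((Curv2.normalizationι X ≫ b ≫ M.g) ∣_ V') := by
    haveI : IsIso ((b ≫ M.g) ∣_ V') := CurveBlowUp.isIso_restrict_of_le (b ≫ M.g) (inf_le_left : V' ≤ U)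
    haveI : IsIso (Curv2.normalizationι X ∣_ W) := hWiso
    haveI : IsIso (Curv2.normalizationι X ∣_ ((b ≫ M.g) ⁻¹ᵁ V')) :=
      CurveBlowUp.isIso_restrict_of_le (Curv2.normalizationι X) fun x hx => by
        by_contra hxW
        exact hx.2 ⟨x, hxW, rfl⟩
    rw [morphismRestrict_comp]
    infer_instance
  have hlift : ∀ (T : Scheme.{u}) [IsIntegral T], Pi1.IsNormalScheme T → ∀ τ : T ⟶ M.Z,
      M.g (τ (genericPoint T)) = genericPoint N → BlowUp.IsEffCartierIdeal ((ptIdeal hz).comap τ) →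
      ∃ τ' : T ⟶ Curv2.normalization X, τ' ≫ Curv2.normalizationι X ≫ b = τ := by
    intro T _ hT τ hτ hcart
    obtain ⟨h, hh, -⟩ := hb.2 T τ hcart
    have hgen : h (genericPoint T) = genericPoint X := eq_generic (b ≫ M.g) hU (by
      rw [← Scheme.Hom.comp_apply, ← Category.assoc, hh, Scheme.Hom.comp_apply, hτ])
    obtain ⟨l, hl, -⟩ := S9690.result X h hT (fun w hw => by
      have hw' : closure ({w} : Set T) = Set.univ := by
        rw [irreducibleComponents_eq_singleton] at hw
        exact hw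
      have : w = genericPoint T := ((show IsGenericPoint w (Set.univ : Set T) from hw').eq (genericPoint_spec T))
      rw [this]
      exact hgen)
    exact ⟨l, by rw [← hh, ← hl, Category.assoc]⟩
  have hlifts : ∀ [IsIntegral N] (T : Scheme.{u}) [IsIntegral T] [IsLocallyNoetherian T], Pi1.IsNormalScheme T →
      (∀ t : T, IsPrincipalIdealRing (T.presheaf.stalk t)) → ∀ τ0 : T ⟶ N, τ0 (genericPoint T) = genericPoint N →
      ∃ τ : T ⟶ Curv2.normalization X, τ ≫ Curv2.normalizationι X ≫ b ≫ M.g = τ0 := by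
    intro _ T _ _ hT hp τ0 hτ0
    obtain ⟨τ, rfl⟩ := M.lifts T hT hp τ0 hτ0
    obtain ⟨τ', hτ'⟩ := hlift T hT τ hτ0 (CurveBlowUp.isEffCartierIdeal_of_pid (by
      rw [Scheme.IdealSheafData.support_comap]
      show τ (genericPoint T) ∉ ((ptIdeal hz).support : Set M.Z)
      rw [coe_support_ptIdeal hz, Set.mem_singleton_iff]
      intro e
      refine hne ?_
      rw [← hτ0, Scheme.Hom.comp_apply, e]) hp)
    exact ⟨τ', by rw [← hτ']; simp only [Category.assoc]⟩
  let M' : Mdl N :=
    { Z := Curv2.normalization X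
      g := Curv2.normalizationι X ≫ b ≫ M.g
      seq := Resolve.IsNormPtBlowupSeq.step b M.g z hz hb M.seq
      integral := hI
      normal := hnorm
      nagata := hnag
      proper := inferInstance
      birational := ⟨V', hV', hiso'⟩
      lifts := hlifts }
  refine ⟨M', Curv2.normalizationι X ≫ b, Category.assoc _ _ _, ?_, ?_⟩
  · have h1 : HTop.IsLocPrincipal ((ptIdeal hz).comap b) := fun x => by
      obtain ⟨U, hxU, f, -, hf⟩ := hb.1 x
      exact ⟨U, hxU, f, hf⟩
    rw [Scheme.IdealSheafData.comap_comp]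
    exact HTop26.isLocPrincipal_comap h1 _
  · exact hlift

end Groth.Agent.NormBlow
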