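import Groth.Agent.Lib.NormBlow32.Main
import Groth.Agent.Lib.NormFin18.Apps
import Groth.Agent.Lib.AlgSpDecent.DimMor
import Groth.Agent.Lib.VB17.Setup

/-!
# Normalized blowing ups of a Nagata surface dominate modifications and resolve rational maps
-/

set_option autoImplicit false
set_option linter.style.haveILetI false
set_option linter.unusedSectionVars false
set_option backward.isDefEq.respectTransparency false
set_option maxHeartbeats 1000000

universe u

open CategoryTheory CategoryTheory.Limits AlgebraicGeometry TopologicalSpace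

noncomputable section

namespace Groth.Agent.NormBlow

/-- A scheme locally of finite type over a Nagata scheme is Nagata. -/
theorem isNagata_of_lft {X Y : Scheme.{u}} (hN : ∀ U : X.affineOpens, CAlg.IsNagata Γ(X, U.1)) (g : Y ⟶ X)
    [LocallyOfFiniteType g] : ∀ V : Y.affineOpens, CAlg.IsNagata Γ(Y, V.1) := by
  intro V
  refine Groth.Agent.S9833.result Y
    (ι := {V : Y.affineOpens // ∃ U : X.affineOpens, V.1 ≤ g ⁻¹ᵁ U.1}) (fun i => i.1.1) ?_ (fun i => i.1.2) ?_ V.1 V.2
  · refine eq_top_iff.2 fun y _ => ?_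
    obtain ⟨U, hU, hyU, -⟩ := exists_isAffineOpen_mem_and_subset (X := X) (x := g y) (U := ⊤) trivial
    obtain ⟨W, hW, hyW, hWU⟩ := exists_isAffineOpen_mem_and_subset (X := Y) (x := y) (U := g ⁻¹ᵁ U) hyU
    exact TopologicalSpace.Opens.mem_iSup.2 ⟨⟨⟨W, hW⟩, ⟨U, hU⟩, hWU⟩, hyW⟩
  · rintro ⟨⟨W, hW⟩, ⟨U, hU⟩, hWU⟩
    letI := (g.appLE U W hWU).hom.toAlgebra
    haveI : Algebra.FiniteType Γ(X, U) Γ(Y, W) := g.finiteType_appLE hU hW hWU
    exact Groth.Agent.S0566.result Γ(X, U) (hN ⟨U, hU⟩) Γ(Y, W)

/-- The normalization of an integral Nagata scheme: finite, integral, normal, an isomorphism over an open. -/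
theorem normalization_props (X : Scheme.{u}) [IsIntegral X] [QuasiCompact (X.fromSpecStalk (genericPoint X))]
    [QuasiSeparated (X.fromSpecStalk (genericPoint X))] (hN : ∀ U : X.affineOpens, CAlg.IsNagata Γ(X, U.1)) :
    IsFinite (Curv2.normalizationι X) ∧ IsIntegral (Curv2.normalization X) ∧
      Pi1.IsNormalScheme (Curv2.normalization X) ∧
      ∃ W : X.Opens, (W : Set X).Nonempty ∧ IsIso (Curv2.normalizationι X ∣_ W) := by
  let ξ := X.fromSpecStalk (genericPoint X)
  haveI hfld : IsIntegral (Spec (X.presheaf.stalk (genericPoint X))) := by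
    haveI : IsDomain (X.presheaf.stalk (genericPoint X)) :=
      inferInstanceAs (IsDomain X.functionField)
    infer_instance
  haveI : Subsingleton (Spec (X.presheaf.stalk (genericPoint X))) :=
    inferInstanceAs (Subsingleton (PrimeSpectrum X.functionField))
  haveI hfin : IsFinite ξ.fromNormalization := by
    refine NormFin18.isFinite_of_nagata ξ hN ?_ fun x _ => ?_
    · haveI : Finite ↥(irreducibleComponents (Spec (X.presheaf.stalk (genericPoint X)))) := by
        rw [irreducibleComponents_eq_singleton]; infer_instance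
      exact locallyFinite_of_finite _
    · refine RingHom.FiniteType.essFiniteType (RingHom.FiniteType.of_surjective _ fun a => ?_)
      obtain ⟨a', rfl⟩ := IsLocalRing.residue_surjective a
      obtain ⟨c, rfl⟩ := ξ.stalkMap_surjective x a'
      exact ⟨IsLocalRing.residue _ c, IsLocalRing.ResidueField.map_residue _ _⟩
  have hid : X.fromSpecStalk (genericPoint X) =
      Spec.map (CommRingCat.ofHom (RingHom.id X.functionField)) ≫ X.fromSpecStalk (genericPoint X) := by simp
  obtain ⟨h1, h2⟩ := CurveNF.isIntegral_and_normal (K := X.functionField) hid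
  exact ⟨hfin, h1, h2, NormFin18.exists_isIso_restrict (X := X) hid⟩

/-- Normalized blowing ups dominate modifications of a Nagata surface. -/
theorem exists_dominate_modification (X : Scheme.{u}) [IsIntegral X] [IsNoetherian X]
    (hN : ∀ U : X.affineOpens, CAlg.IsNagata Γ(X, U.1)) (hdim : topologicalKrullDim X = 2)
    [QuasiCompact (X.fromSpecStalk (genericPoint X))] [QuasiSeparated (X.fromSpecStalk (genericPoint X))]
    {Y : Scheme.{u}} [IsIntegral Y] (f : Y ⟶ X) [IsProper f] {U : X.Opens} (hU : (U : Set X).Nonempty)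
    [IsIso (f ∣_ U)] :
    ∃ (Xn : Scheme.{u}) (g : Xn ⟶ Curv2.normalization X), Resolve.IsNormPtBlowupSeq g ∧
      ∃ h : Xn ⟶ Y, h ≫ f = g ≫ Curv2.normalizationι X := by
  obtain ⟨hfin, hint, hn, W, hW, hWiso⟩ := normalization_props X hN
  haveI := hfin; haveI := hint; haveI := hWiso
  let ν := Curv2.normalizationι X
  have hNN := isNagata_of_lft hN ν
  haveI : IsLocallyNoetherian (Curv2.normalization X) := LocallyOfFiniteType.isLocallyNoetherian ν
  haveI : CompactSpace (Curv2.normalization X) := QuasiCompact.compactSpace_of_compactSpace ν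
  haveI : IsNoetherian (Curv2.normalization X) := {}
  have hd : ∀ x : Curv2.normalization X, ringKrullDim ((Curv2.normalization X).presheaf.stalk x) ≤ 2 := fun x =>
    (VB17.ringKrullDim_stalk_le_topologicalKrullDim x).trans
      ((AlgSpDecent.topologicalKrullDim_le_of_lqf ν).trans hdim.le)
  have hη : ¬ IsClosed ({genericPoint (Curv2.normalization X)} : Set (Curv2.normalization X)) := by
    intro hc
    have hgen : ν (genericPoint (Curv2.normalization X)) = genericPoint X := map_generic ν hW
    have h1 := ν.isClosedMap _ hc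
    rw [Set.image_singleton, hgen] at h1
    haveI : Subsingleton X := ⟨fun a b => by
      have ha : ∀ c : X, c = genericPoint X := fun c =>
        Set.mem_singleton_iff.1 (((genericPoint_spec X).specializes (Set.mem_univ c)).mem_closed h1 rfl)
      rw [ha a, ha b]⟩
    have h0 : topologicalKrullDim X ≤ 0 := by
      haveI : Subsingleton (IrreducibleCloseds X) := ⟨fun a b => IrreducibleCloseds.ext (Set.ext fun x =>
        ⟨fun _ => b.2.nonempty.elim fun y hy => Subsingleton.elim y x ▸ hy,
          fun _ => a.2.nonempty.elim fun y hy => Subsingleton.elim y x ▸ hy⟩)⟩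
      exact Order.krullDim_nonpos_of_subsingleton
    rw [hdim] at h0
    exact absurd h0 (by norm_num)
  haveI : IsLocallyNoetherian Y := LocallyOfFiniteType.isLocallyNoetherian f
  haveI : QuasiCompact (Y.fromSpecStalk (genericPoint Y)) := inferInstance
  haveI : QuasiSeparated (Y.fromSpecStalk (genericPoint Y)) := inferInstance
  obtain ⟨hfin', hint', hnY, O, hO, hOiso⟩ := normalization_props Y (isNagata_of_lft hN f)
  haveI := hfin'; haveI := hint'; haveI := hOiso
  let μ := Curv2.normalizationι Y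
  obtain ⟨q, hq, -⟩ := S9690.result X (μ ≫ f) hnY (fun w hw => by
    have hw' : closure ({w} : Set (Curv2.normalization Y)) = Set.univ := by
      rw [irreducibleComponents_eq_singleton] at hw
      exact hw
    have : w = genericPoint (Curv2.normalization Y) :=
      ((show IsGenericPoint w (Set.univ : Set (Curv2.normalization Y)) from hw').eq (genericPoint_spec _))
    rw [this, Scheme.Hom.comp_apply, show μ (genericPoint _) = genericPoint Y from map_generic μ hO]
    exact map_generic f hU)
  haveI : IsProper q := by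
    haveI : IsProper (q ≫ ν) := by rw [hq]; infer_instance
    exact IsProper.of_comp q ν
  -- the common open
  have hOc : IsClosed (f '' (O : Set Y)ᶜ) := f.isClosedMap _ O.isOpen.isClosed_compl
  let W' : X.Opens := W ⊓ U ⊓ ⟨(f '' (O : Set Y)ᶜ)ᶜ, hOc.isOpen_compl⟩
  have hW' : (W' : Set X).Nonempty := by
    refine ⟨genericPoint X, ⟨CurveBlowUp.generic_mem hW, CurveBlowUp.generic_mem hU⟩, ?_⟩
    rintro ⟨y, hy, hyη⟩
    exact hy (eq_generic f hU hyη ▸ CurveBlowUp.generic_mem hO)
  haveI h1 : IsIso (ν ∣_ W') := CurveBlowUp.isIso_restrict_of_le ν (inf_le_left.trans inf_le_left)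
  haveI : IsIso (f ∣_ W') := CurveBlowUp.isIso_restrict_of_le f (inf_le_left.trans inf_le_right)
  haveI : IsIso (μ ∣_ (f ⁻¹ᵁ W')) := CurveBlowUp.isIso_restrict_of_le μ fun y hy => by
    by_contra hyO
    exact hy.2 ⟨y, hyO, rfl⟩
  haveI : IsIso (q ∣_ (ν ⁻¹ᵁ W')) := by
    haveI : IsIso ((q ≫ ν) ∣_ W') := by rw [hq, morphismRestrict_comp]; infer_instance
    have e := morphismRestrict_comp q ν W'
    haveI : IsIso ((q ∣_ (ν ⁻¹ᵁ W')) ≫ (ν ∣_ W')) := e ▸ ‹IsIso ((q ≫ ν) ∣_ W')›
    exact IsIso.of_isIso_comp_right _ (ν ∣_ W')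
  have hV : (ν ⁻¹ᵁ W' : Set (Curv2.normalization X)).Nonempty :=
    ⟨genericPoint _, show ν (genericPoint _) ∈ W' from map_generic ν hW ▸ CurveBlowUp.generic_mem hW'⟩
  obtain ⟨M, h, hh⟩ := exists_dominate q hnY hd hη hn hNN hV
  exact ⟨M.Z, M.g, M.seq, h ≫ μ, by rw [Category.assoc, ← hq, ← Category.assoc, hh]⟩

/-- The graph of a rational map to a proper scheme. -/
theorem exists_graph_extend {X Z S : Scheme.{u}} [IsNoetherian X] [IsIntegral X] (c : X ⟶ S) (q : Z ⟶ S)
    [IsProper q] (U : X.Opens) (hne : (U : Set X).Nonempty) (g : (U : Scheme.{u}) ⟶ Z) (hg : g ≫ q = U.ι ≫ c) :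
    ∃ (Y : Scheme.{u}) (_ : IsIntegral Y) (f : Y ⟶ X) (r : Y ⟶ Z), IsProper f ∧ IsIso (f ∣_ U) ∧
      r ≫ q = f ≫ c ∧ (f ⁻¹ᵁ U).ι ≫ r = (f ∣_ U) ≫ g := by
  let j : (U : Scheme.{u}) ⟶ pullback c q := pullback.lift U.ι g hg.symm
  haveI : QuasiCompact U.ι := by
    haveI : IsLocallyNoetherian X := inferInstance
    infer_instance
  haveI : QuasiCompact j := by
    haveI : QuasiCompact (j ≫ pullback.fst c q) := by
      rw [pullback.lift_fst]; infer_instance
    exact QuasiCompact.of_comp j (pullback.fst c q)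
  haveI : Nonempty (U : Scheme.{u}) := hne.to_subtype
  haveI : IsIntegral (U : Scheme.{u}) := isIntegral_of_isOpenImmersion U.ι
  haveI := RegExt.isIntegral_image j
  let f : j.image ⟶ X := j.imageι ≫ pullback.fst c q
  haveI : IsProper (pullback.fst c q) := MorphismProperty.pullback_fst _ _ inferInstance
  haveI : IsProper f := inferInstanceAs (IsProper (j.imageι ≫ pullback.fst c q))
  have hjf : j.toImage ≫ f = U.ι := by
    show _ ≫ _ ≫ _ = _
    rw [← Category.assoc, Scheme.Hom.toImage_imageι, pullback.lift_fst]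
  have hr : Set.range j.toImage ⊆ Set.range (f ⁻¹ᵁ U).ι := by
    rintro _ ⟨w, rfl⟩
    rw [Scheme.Opens.range_ι]
    show (j.toImage ≫ f) w ∈ U
    rw [hjf]; exact w.2
  let σ : (U : Scheme.{u}) ⟶ f ⁻¹ᵁ U := IsOpenImmersion.lift (f ⁻¹ᵁ U).ι j.toImage hr
  have hσ : σ ≫ (f ⁻¹ᵁ U).ι = j.toImage := IsOpenImmersion.lift_fac _ _ _
  have hσf : σ ≫ (f ∣_ U) = 𝟙 _ := by
    rw [← cancel_mono U.ι, Category.assoc, morphismRestrict_ι, ← Category.assoc, hσ, hjf, Category.id_comp]
  haveI : IsClosedImmersion σ := by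
    haveI : IsClosedImmersion (σ ≫ (f ∣_ U)) := by rw [hσf]; infer_instance
    exact IsClosedImmersion.of_comp σ (f ∣_ U)
  haveI : Surjective σ := ⟨by
    rw [← Set.range_eq_univ, ← σ.isClosedEmbedding.isClosed_range.closure_eq]
    refine Set.eq_univ_of_forall fun w => ?_
    rw [(f ⁻¹ᵁ U).ι.isOpenEmbedding.isInducing.closure_eq_preimage_closure_image, Set.mem_preimage, ← Set.range_comp]
    have e : ((f ⁻¹ᵁ U).ι : ↥(f ⁻¹ᵁ U) → j.image) ∘ σ = j.toImage := by
      funext v
      show (σ ≫ (f ⁻¹ᵁ U).ι) v = _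
      rw [hσ]
    rw [e, j.toImage.denseRange.closure_range]
    exact Set.mem_univ _⟩
  haveI : IsReduced ((f ⁻¹ᵁ U : j.image.Opens) : Scheme.{u}) := inferInstance
  haveI : IsIso σ := isIso_of_isClosedImmersion_of_surjective σ
  haveI : IsIso (σ ≫ (f ∣_ U)) := by rw [hσf]; infer_instance
  have hfU : IsIso (f ∣_ U) := IsIso.of_isIso_comp_left σ (f ∣_ U)
  refine ⟨j.image, inferInstance, f, j.imageι ≫ pullback.snd c q, inferInstance, hfU, ?_, ?_⟩
  · rw [Category.assoc, ← pullback.condition]
    simp only [f, Category.assoc]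
  · rw [← cancel_epi σ, ← Category.assoc, hσ, ← Category.assoc σ, hσf, Category.id_comp, ← Category.assoc,
      Scheme.Hom.toImage_imageι, pullback.lift_snd]

end Groth.Agent.NormBlow
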