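import Groth.Agent.Lib.NormBlow32.Stage
import Groth.Agent.Lib.FtPts3.Basic
import Groth.Agent.Lib.BCField24.IntClosure

/-!
# Divisorial centres become curves after normalized blowing ups
-/

set_option autoImplicit false
set_option linter.style.haveILetI false
set_option linter.unusedSectionVars false
set_option backward.isDefEq.respectTransparency false
set_option maxHeartbeats 1000000

universe u

open CategoryTheory CategoryTheory.Limits AlgebraicGeometry TopologicalSpace IsLocalRing

noncomputable section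

namespace Groth.Agent.NormBlow

open PointBlowUp DivDesc12

variable {V : CommRingCat.{u}} [IsDomain V] [IsDiscreteValuationRing V]

theorem isNormalScheme_spec : Pi1.IsNormalScheme (Spec V) := fun t =>
  ⟨inferInstance, @BCField24.isIntegrallyClosed_stalk_spec V _ ‹_› inferInstance t⟩

theorem isPrincipalIdealRing_stalk_spec (t : Spec V) : IsPrincipalIdealRing ((Spec V).presheaf.stalk t) :=
  ⟨fun I => by
    have hU : IsAffineOpen (⊤ : (Spec V).Opens) := isAffineOpen_top _
    letI := (Spec V).presheaf.algebra_section_stalk (⟨t, trivial⟩ : (⊤ : (Spec V).Opens))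
    haveI := hU.isLocalization_stalk ⟨t, trivial⟩
    haveI : IsPrincipalIdealRing Γ(Spec V, ⊤) :=
      IsPrincipalIdealRing.of_surjective (Scheme.ΓSpecIso V).inv.hom
        (ConcreteCategory.bijective_of_isIso (Scheme.ΓSpecIso V).inv).surjective
    rw [← IsLocalization.map_under (hU.primeIdealOf ⟨t, trivial⟩).asIdeal.primeCompl ((Spec V).presheaf.stalk t) I]
    obtain ⟨c, hc⟩ := (IsPrincipalIdealRing.principal (I.comap (algebraMap Γ(Spec V, ⊤) _))).principal
    refine ⟨⟨algebraMap _ _ c, ?_⟩⟩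
    show (I.comap (algebraMap Γ(Spec V, ⊤) _)).map _ = _
    rw [hc]
    exact (Ideal.map_span _ _).trans (by rw [Set.image_singleton])⟩

variable {N : Scheme.{u}} [IsIntegral N]

/-- A transcendental value forces the centre to become a curve. -/
theorem exists_centre_aux (τ0 : Spec V ⟶ N) (hgen : τ0 (genericPoint (Spec V)) = genericPoint N)
    (hx0 : IsClosed ({τ0 (closedPoint V)} : Set N)) (hne : τ0 (closedPoint V) ≠ genericPoint N)
    (z : V) (htr : ∀ p : Polynomial (N.presheaf.stalk (τ0 (closedPoint V))), p.Monic →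
      p.eval₂ (Scheme.stalkClosedPointTo τ0).hom z ∉ maximalIdeal V) :
    ∀ (k : ℕ) (M : Mdl N) (τ : Spec V ⟶ M.Z), τ ≫ M.g = τ0 →
      ∀ a b : M.Z.presheaf.stalk (τ (closedPoint V)),
        Scheme.stalkClosedPointTo τ b * z = Scheme.stalkClosedPointTo τ a →
        Scheme.stalkClosedPointTo τ b ∉ maximalIdeal V ^ k →
        ∃ (M' : Mdl N) (π : M'.Z ⟶ M.Z) (τ' : Spec V ⟶ M'.Z),
          π ≫ M.g = M'.g ∧ τ' ≫ M'.g = τ0 ∧ ¬ IsClosed ({τ' (closedPoint V)} : Set M'.Z) := by
  intro k
  induction k with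
  | zero => intro M τ _ a b _ hb; exact absurd (by rw [pow_zero, Ideal.one_eq_top]; trivial) hb
  | succ k ih =>
    intro M τ hτ a b hab hb
    by_cases hc : IsClosed ({τ (closedPoint V)} : Set M.Z)
    swap
    · exact ⟨M, 𝟙 M.Z, τ, Category.id_comp _, hτ, hc⟩
    haveI := M.integral; haveI := M.proper
    haveI := M.locallyNoetherian
    subst hτ
    by_cases hbu : IsUnit b
    · exfalso
      -- then `z` is algebraic over the residue field below
      haveI : IsClosedImmersion (M.Z.fromSpecResidueField (τ (closedPoint V))) :=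
        isClosed_singleton_iff_isClosedImmersion.1 hc
      haveI : LocallyOfFiniteType (M.Z.fromSpecResidueField (τ (closedPoint V)) ≫ M.g) := inferInstance
      have hfin := FtPts3.finite_residueFieldMap_of_lft M.g (τ (closedPoint V))
      let u := a * (hbu.unit⁻¹ : (M.Z.presheaf.stalk (τ (closedPoint V)))ˣ)
      have hu : Scheme.stalkClosedPointTo τ u = z := by
        have h1 : Scheme.stalkClosedPointTo τ b * Scheme.stalkClosedPointTo τ
            ((hbu.unit⁻¹ : (M.Z.presheaf.stalk (τ (closedPoint V)))ˣ) : M.Z.presheaf.stalk (τ (closedPoint V))) = 1 := by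
          rw [← map_mul, IsUnit.mul_val_inv, map_one]
        rw [map_mul, ← hab, mul_right_comm, h1, one_mul]
      obtain ⟨q, hq, hq0⟩ := hfin.to_isIntegral (M.Z.residue (τ (closedPoint V)) u)
      have hlift : q ∈ Polynomial.lifts (N.residue (M.g (τ (closedPoint V)))).hom :=
        (Polynomial.mem_lifts q).2 (Polynomial.map_surjective _ (N.residue_surjective _) q)
      obtain ⟨p, hp, -, hpm⟩ := Polynomial.lifts_and_natDegree_eq_and_monic hlift hq
      refine htr p hpm ?_
      have h1 : p.eval₂ (M.g.stalkMap (τ (closedPoint V))).hom u ∈ maximalIdeal _ := by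
        rw [← IsLocalRing.residue_eq_zero_iff]
        show M.Z.residue (τ (closedPoint V)) _ = 0
        rw [Polynomial.hom_eval₂, ← hq0, ← hp, Polynomial.eval₂_map]
        congr 1
      have h2 : p.eval₂ ((Scheme.stalkClosedPointTo τ).hom.comp (M.g.stalkMap (τ (closedPoint V))).hom)
          (Scheme.stalkClosedPointTo τ u) ∈ maximalIdeal V := by
        rw [← Polynomial.hom_eval₂]
        exact fun hun => h1 (isUnit_of_map_unit _ _ hun)
      rw [hu] at h2
      rw [Scheme.stalkClosedPointTo_comp τ M.g]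
      exact h2
    have hau : ¬ IsUnit a := fun h => hbu (isUnit_of_map_unit (Scheme.stalkClosedPointTo τ).hom b
      (isUnit_of_mul_isUnit_left (show IsUnit (Scheme.stalkClosedPointTo τ b * z) from hab ▸ h.map _)))
    obtain ⟨M', π, hπ, hlp, hlift⟩ := exists_step M (τ (closedPoint V)) hc hx0 hne
    obtain ⟨τ', hτ'⟩ := hlift (Spec V) isNormalScheme_spec τ hgen
      (CurveBlowUp.isEffCartierIdeal_of_pid (by
        rw [Scheme.IdealSheafData.support_comap]
        show τ (genericPoint (Spec V)) ∉ ((ptIdeal hc).support : Set M.Z)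
        rw [coe_support_ptIdeal hc, Set.mem_singleton_iff]
        intro e
        refine hne ?_
        rw [← hgen, Scheme.Hom.comp_apply, Scheme.Hom.comp_apply, e]) isPrincipalIdealRing_stalk_spec)
    subst hτ'
    let c' := τ' (closedPoint V)
    let σ := (π.stalkMap c').hom
    let φ' := (Scheme.stalkClosedPointTo τ').hom
    have hφ : ∀ w, Scheme.stalkClosedPointTo (τ' ≫ π) w = φ' (σ w) := fun w => by
      rw [Scheme.stalkClosedPointTo_comp]; rfl
    obtain ⟨U, hxU, f, hf⟩ := hlp c'
    have hmax : stI (ptIdeal hc) (π c') = maximalIdeal (M.Z.presheaf.stalk (π c')) := stI_ptIdeal hc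
    have hst := DivDesc12.stI_comap (ptIdeal hc) π c'
    rw [stI_eq _ U hxU, hf, Ideal.map_span, Set.image_singleton, hmax] at hst
    set e := M'.Z.presheaf.germ U.1 c' hxU f
    have hmem : ∀ w : M.Z.presheaf.stalk (π c'), ¬ IsUnit w → ∃ w', σ w = e * w' := fun w hw => by
      have : σ w ∈ Ideal.span {e} := by
        show σ w ∈ Ideal.span {M'.Z.presheaf.germ U.1 c' hxU f}
        erw [hst]
        exact Ideal.mem_map_of_mem _ hw
      obtain ⟨w', hw'⟩ := Ideal.mem_span_singleton'.1 this
      exact ⟨w', by rw [← hw', mul_comm]⟩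
    have he : φ' e ∈ maximalIdeal V := by
      have he' : e ∈ maximalIdeal (M'.Z.presheaf.stalk c') := by
        refine (IsLocalRing.map_maximalIdeal_le (f := σ)) ?_
        show e ∈ Ideal.map (π.stalkMap c').hom _
        erw [← hst]
        exact Ideal.mem_span_singleton_self _
      exact fun hun => he' (isUnit_of_map_unit _ _ hun)
    obtain ⟨a', ha'⟩ := hmem a hau
    obtain ⟨b', hb'⟩ := hmem b hbu
    have hab' : φ' (σ b) * z = φ' (σ a) := by rw [← hφ, ← hφ]; exact hab
    rw [hφ, hb', map_mul] at hb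
    rw [ha', hb', map_mul, map_mul, mul_assoc] at hab'
    obtain ⟨M'', π', τ'', hπ', h1, h2⟩ := ih M' τ' (by rw [← hπ, Category.assoc]) a' b' (mul_left_cancel₀ (fun h0 =>
      hb (by rw [h0, zero_mul]; exact Submodule.zero_mem _)) hab') fun h => hb (by
        rw [pow_succ']; exact Ideal.mul_mem_mul he h)
    exact ⟨M'', π' ≫ π, τ'', by rw [Category.assoc, hπ, hπ'], h1, h2⟩

/-- After normalized blowing ups a divisorial valuation is centred at a nonclosed point. -/
theorem exists_centre (τ0 : Spec V ⟶ N) (hgen : τ0 (genericPoint (Spec V)) = genericPoint N)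
    (hx0 : IsClosed ({τ0 (closedPoint V)} : Set N)) (hne : τ0 (closedPoint V) ≠ genericPoint N)
    (z : V) (htr : ∀ p : Polynomial (N.presheaf.stalk (τ0 (closedPoint V))), p.Monic →
      p.eval₂ (Scheme.stalkClosedPointTo τ0).hom z ∉ maximalIdeal V)
    (M : Mdl N) (τ : Spec V ⟶ M.Z) (hτ : τ ≫ M.g = τ0)
    (hfrac : ∃ a b : N.presheaf.stalk (τ0 (closedPoint V)),
      Scheme.stalkClosedPointTo τ0 b ≠ 0 ∧ Scheme.stalkClosedPointTo τ0 b * z = Scheme.stalkClosedPointTo τ0 a) :
    ∃ (M' : Mdl N) (π : M'.Z ⟶ M.Z) (τ' : Spec V ⟶ M'.Z),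
          π ≫ M.g = M'.g ∧ τ' ≫ M'.g = τ0 ∧ ¬ IsClosed ({τ' (closedPoint V)} : Set M'.Z) := by
  obtain ⟨a, b, hb, hab⟩ := hfrac
  subst hτ
  obtain ⟨k, hk⟩ : ∃ k, Scheme.stalkClosedPointTo (τ ≫ M.g) b ∉ maximalIdeal V ^ k := by
    by_contra h
    push Not at h
    refine hb ?_
    have : Scheme.stalkClosedPointTo (τ ≫ M.g) b ∈ ⨅ i : ℕ, maximalIdeal V ^ i := Submodule.mem_iInf _ |>.2 h
    rwa [Ideal.iInf_pow_eq_bot_of_isLocalRing _ (maximalIdeal.isMaximal V).ne_top, Submodule.mem_bot] at this
  rw [Scheme.stalkClosedPointTo_comp] at hab hk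
  exact exists_centre_aux (τ ≫ M.g) hgen hx0 hne z htr k M τ rfl (M.g.stalkMap _ a) (M.g.stalkMap _ b) hab hk

end Groth.Agent.NormBlow
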