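import Groth.Agent.Lib.NormBlow32.Center
import Groth.Agent.Lib.RegExt.Image
import Groth.Agent.Lib.DVRVal.Curve
import Groth.Agent.S9687
import Groth.Agent.S13532

/-!
# Normalized blowing ups dominate modifications
-/

set_option autoImplicit false
set_option linter.style.haveILetI false
set_option linter.unusedSectionVars false
set_option backward.isDefEq.respectTransparency false
set_option maxHeartbeats 2000000

universe u

open CategoryTheory CategoryTheory.Limits AlgebraicGeometry TopologicalSpace IsLocalRing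

noncomputable section

namespace Groth.Agent.NormBlow

open DivDesc12

theorem exists_frac {N : Scheme.{u}} [IsIntegral N] {e x : N} (he : e = genericPoint N) (h : e ⤳ x)
    (w : N.presheaf.stalk e) :
    ∃ a b : N.presheaf.stalk x, sp h b ≠ 0 ∧ w * sp h b = sp h a := by
  subst he
  obtain ⟨⟨a, b, hb⟩, hw⟩ := IsLocalization.surj (nonZeroDivisors (N.presheaf.stalk x)) (S := N.functionField) w
  refine ⟨a, b, fun h0 => nonZeroDivisors.ne_zero hb ?_, hw⟩
  exact IsFractionRing.injective (N.presheaf.stalk x) N.functionField (h0.trans (map_zero _).symm)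

theorem isIso_stalkMap_generic {X Y : Scheme.{u}} [IsIntegral X] [IsIntegral Y] (f : X ⟶ Y) {V : Y.Opens}
    (hV : (V : Set Y).Nonempty) [IsIso (f ∣_ V)] : IsIso (f.stalkMap (genericPoint X)) := by
  have hx : f (genericPoint X) ∈ V := map_generic f hV ▸ CurveBlowUp.generic_mem hV
  haveI : IsOpenImmersion (f ∣_ V) := IsOpenImmersion.of_isIso _
  exact ((MorphismProperty.isomorphisms CommRingCat.{u}).arrow_mk_iso_iff
    (morphismRestrictStalkMap f V ⟨genericPoint X, hx⟩)).1
      (inferInstanceAs (IsIso ((f ∣_ V).stalkMap ⟨genericPoint X, hx⟩)))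

/-- A birational proper map restricted to the graph. -/
theorem exists_graph {N Z Γ : Scheme.{u}} [IsNoetherian N] [IsIntegral Z] [IsIntegral Γ] (g : Z ⟶ N) (q : Γ ⟶ N)
    [IsProper g] [IsProper q] (V : N.Opens) [IsIso (g ∣_ V)] [IsIso (q ∣_ V)]
    (hne : (g ⁻¹ᵁ V : Set Z).Nonempty) :
    ∃ (G : Scheme.{u}) (i : G ⟶ pullback g q), IsClosedImmersion i ∧ IsIntegral G ∧
      IsIso ((i ≫ pullback.fst g q) ∣_ (g ⁻¹ᵁ V)) := by
  haveI : IsLocallyNoetherian Z := LocallyOfFiniteType.isLocallyNoetherian g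
  let U := g ⁻¹ᵁ V
  let t : (U : Scheme.{u}) ⟶ Γ := (g ∣_ V) ≫ inv (q ∣_ V) ≫ (q ⁻¹ᵁ V).ι
  have ht : U.ι ≫ g = t ≫ q := by
    show _ = ((g ∣_ V) ≫ inv (q ∣_ V) ≫ (q ⁻¹ᵁ V).ι) ≫ q
    rw [Category.assoc, Category.assoc, ← morphismRestrict_ι q V, IsIso.inv_hom_id_assoc, morphismRestrict_ι]
  let j : (U : Scheme.{u}) ⟶ pullback g q := pullback.lift U.ι t ht
  haveI : QuasiCompact U.ι := inferInstance
  haveI : QuasiCompact j := by
    haveI : QuasiCompact (j ≫ pullback.fst g q) := by
      rw [pullback.lift_fst]; infer_instance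
    exact QuasiCompact.of_comp j (pullback.fst g q)
  haveI : Nonempty (U : Scheme.{u}) := hne.to_subtype
  haveI : IsIntegral (U : Scheme.{u}) := isIntegral_of_isOpenImmersion U.ι
  haveI := RegExt.isIntegral_image j
  let f : j.image ⟶ Z := j.imageι ≫ pullback.fst g q
  haveI : IsProper (pullback.fst g q) := MorphismProperty.pullback_fst _ _ inferInstance
  haveI : IsProper f := inferInstanceAs (IsProper (j.imageι ≫ pullback.fst g q))
  have hjf : j.toImage ≫ f = U.ι := by
    show _ ≫ _ ≫ _ = _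
    rw [← Category.assoc, Scheme.Hom.toImage_imageι, pullback.lift_fst]
  have hr : Set.range j.toImage ⊆ Set.range (f ⁻¹ᵁ U).ι := by
    rintro _ ⟨w, rfl⟩
    rw [Scheme.Opens.range_ι]
    show (j.toImage ≫ f) w ∈ U
    rw [hjf]; exact w.2
  let σ : (U : Scheme.{u}) ⟶ f ⁻¹ᵁ U := IsOpenImmersion.lift (f ⁻¹ᵁ U).ι j.toImage hr
  have hσ : σ ≫ (f ⁻¹ᵁ U).ι = j.toImage := IsOpenImmersion.lift_fac _ _ _
  have hσf : σ ≫ (f ∣_ U) = 𝟙 _ := by
    rw [← cancel_mono U.ι, Category.assoc, morphismRestrict_ι, ← Category.assoc, hσ, hjf, Category.id_comp]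
  haveI : IsClosedImmersion σ := by
    haveI : IsClosedImmersion (σ ≫ (f ∣_ U)) := by rw [hσf]; infer_instance
    exact IsClosedImmersion.of_comp σ (f ∣_ U)
  haveI : Surjective σ := ⟨by
    rw [← Set.range_eq_univ, ← σ.isClosedEmbedding.isClosed_range.closure_eq]
    refine Set.eq_univ_of_forall fun w => ?_
    rw [(f ⁻¹ᵁ U).ι.isOpenEmbedding.isInducing.closure_eq_preimage_closure_image, Set.mem_preimage, ← Set.range_comp]
    have e : ((f ⁻¹ᵁ U).ι : ↥(f ⁻¹ᵁ U) → j.image) ∘ σ = j.toImage := by
      funext v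
      show (σ ≫ (f ⁻¹ᵁ U).ι) v = _
      rw [hσ]
    rw [e, j.toImage.denseRange.closure_range]
    exact Set.mem_univ _⟩
  haveI : IsReduced ((f ⁻¹ᵁ U : j.image.Opens) : Scheme.{u}) := inferInstance
  haveI : IsIso σ := isIso_of_isClosedImmersion_of_surjective σ
  refine ⟨j.image, j.imageι, inferInstance, inferInstance, ?_⟩
  haveI : IsIso (σ ≫ (f ∣_ U)) := by rw [hσf]; infer_instance
  exact IsIso.of_isIso_comp_left σ (f ∣_ U)

theorem ne_of_closed {X : Scheme.{u}} [IsIntegral X] {x : X} (hx : IsClosed ({x} : Set X))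
    (hη : ¬ IsClosed ({genericPoint X} : Set X)) : x ≠ genericPoint X := fun e => hη (e ▸ hx)

theorem false_of_chain {a b c : WithBot ℕ∞} (h0 : 0 ≤ a) (hab : a < b) (hbc : b < c) (hc : c ≤ 1) : False := by
  obtain ⟨a', rfl⟩ : ∃ a' : ℕ∞, a = a' := ⟨a.unbot (ne_bot_of_le_ne_bot (by simp) h0), (WithBot.coe_unbot _ _).symm⟩
  obtain ⟨b', rfl⟩ : ∃ b' : ℕ∞, b = b' := ⟨b.unbot (ne_bot_of_gt hab), (WithBot.coe_unbot _ _).symm⟩
  obtain ⟨c', rfl⟩ : ∃ c' : ℕ∞, c = c' := ⟨c.unbot (ne_bot_of_gt hbc), (WithBot.coe_unbot _ _).symm⟩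
  rw [WithBot.coe_lt_coe] at hab hbc
  have hc' : c' ≤ 1 := WithBot.coe_le_coe.1 hc
  have := (ENat.lt_one_iff_eq_zero).1 (hbc.trans_le hc')
  exact absurd (this ▸ hab) not_lt_zero

theorem le_one_of_lt_of_le_two {a b : WithBot ℕ∞} (hab : a < b) (hb : b ≤ 2) : a ≤ 1 := by
  have h : a < 2 := hab.trans_le hb
  rcases a with _ | a
  · exact bot_le
  · have h' : a < 2 := WithBot.coe_lt_coe.1 h
    exact WithBot.coe_le_coe.2 (ENat.lt_add_one_iff (by simp) |>.1 (by rwa [show (1 : ℕ∞) + 1 = 2 by norm_num]))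

variable {N : Scheme.{u}} [IsIntegral N] [IsNoetherian N] {Γ : Scheme.{u}} [IsIntegral Γ] (q : Γ ⟶ N) [IsProper q]

theorem trdeg_generic_le {V : N.Opens} (hV : (V : Set N).Nonempty) [IsIso (q ∣_ V)] (ξ : Γ)
    (hξ : closure ({ξ} : Set Γ) ∈ irreducibleComponents ↥Γ) :
    letI := (q.residueFieldMap ξ).hom.toAlgebra
    Algebra.trdeg (N.residueField (q ξ)) (Γ.residueField ξ) ≤ (0 : ℕ) := by
  rw [irreducibleComponents_eq_singleton] at hξ
  obtain rfl : ξ = genericPoint Γ := (show IsGenericPoint ξ (Set.univ : Set Γ) from hξ).eq (genericPoint_spec Γ)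
  haveI := isIso_stalkMap_generic q hV
  letI := (q.residueFieldMap (genericPoint Γ)).hom.toAlgebra
  have hs : Function.Surjective (q.residueFieldMap (genericPoint Γ)).hom := fun a => by
    obtain ⟨a', rfl⟩ := IsLocalRing.residue_surjective a
    obtain ⟨c, rfl⟩ := (ConcreteCategory.bijective_of_isIso (q.stalkMap (genericPoint Γ))).surjective a'
    exact ⟨IsLocalRing.residue _ c, IsLocalRing.ResidueField.map_residue _ _⟩
  haveI : Algebra.IsAlgebraic (N.residueField (q (genericPoint Γ))) (Γ.residueField (genericPoint Γ)) :=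
    ⟨fun a => by
      obtain ⟨c, rfl⟩ := hs a
      exact isAlgebraic_algebraMap c⟩
  rw [trdeg_eq_zero, Nat.cast_zero]

/-- The stalks of a surface modification have dimension at most two. -/
theorem dim_closed_le {V : N.Opens} (hV : (V : Set N).Nonempty) [IsIso (q ∣_ V)] {c : Γ}
    (hc : IsClosed ({c} : Set Γ)) (hdim : ∀ x : N, ringKrullDim (N.presheaf.stalk x) ≤ 2) :
    ringKrullDim (Γ.presheaf.stalk c) ≤ 2 := by
  haveI : IsClosedImmersion (Γ.fromSpecResidueField c) := isClosed_singleton_iff_isClosedImmersion.1 hc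
  haveI : LocallyOfFiniteType (Γ.fromSpecResidueField c ≫ q) := inferInstance
  have hfin := FtPts3.finite_residueFieldMap_of_lft q c
  have h0 : letI := (q.residueFieldMap c).hom.toAlgebra
      Algebra.trdeg (N.residueField (q c)) (Γ.residueField c) = (0 : ℕ) := by
    letI := (q.residueFieldMap c).hom.toAlgebra
    haveI : Module.Finite (N.residueField (q c)) (Γ.residueField c) := hfin
    rw [trdeg_eq_zero, Nat.cast_zero]
  have h := S9687.result q c 0 0 h0 fun ξ hξ _ => trdeg_generic_le q hV ξ hξ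
  simp only [Nat.cast_zero, add_zero] at h
  exact h.trans (hdim _)

variable (hΓ : Pi1.IsNormalScheme Γ) (hdim : ∀ x : N, ringKrullDim (N.presheaf.stalk x) ≤ 2)
  (hη : ¬ IsClosed ({genericPoint N} : Set N))

include hΓ hdim hη in
/-- Normalized blowing ups dominate a normal modification of a surface. -/
theorem exists_dominate (hn : Pi1.IsNormalScheme N) (hN : ∀ U : N.affineOpens, CAlg.IsNagata Γ(N, U.1))
    {V : N.Opens} (hV : (V : Set N).Nonempty) [IsIso (q ∣_ V)] :
    ∃ (M : Mdl N) (h : M.Z ⟶ Γ), h ≫ q = M.g := by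
  classical
  haveI : IsLocallyNoetherian Γ := LocallyOfFiniteType.isLocallyNoetherian q
  haveI : CompactSpace Γ := QuasiCompact.compactSpace_of_compactSpace q
  haveI : IsNoetherian Γ := {}
  have hqgen := map_generic q hV
  -- the exceptional curves
  let W : Set Γ := {γ | ¬ IsClosed ({γ} : Set Γ) ∧ IsClosed ({q γ} : Set N)}
  have hWgen : ∀ γ ∈ W, γ ≠ genericPoint Γ := fun γ hγ e => hη (by rw [← hqgen, ← e]; exact hγ.2)
  have hclspec : ∀ γ : Γ, ¬ IsClosed ({γ} : Set Γ) → ∃ c, γ ⤳ c ∧ c ≠ γ ∧ IsClosed ({c} : Set Γ) := fun γ hγ => by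
    obtain ⟨c, hc, hcc⟩ := (isClosed_closure (s := ({γ} : Set Γ))).exists_closed_singleton ⟨γ, subset_closure rfl⟩
    exact ⟨c, specializes_iff_mem_closure.2 hc, fun e => hγ (e ▸ hcc), hcc⟩
  have hdim1 : ∀ γ : Γ, ¬ IsClosed ({γ} : Set Γ) → ringKrullDim (Γ.presheaf.stalk γ) ≤ 1 := fun γ hγ => by
    obtain ⟨c, hc, hne, hcc⟩ := hclspec γ hγ
    exact le_one_of_lt_of_le_two (ringKrullDim_stalk_lt hc hne.symm) (dim_closed_le q hV hcc hdim)
  have hWfin : W.Finite := by
    have hQ : IsClosed {γ : Γ | q γ ∉ V} := V.isOpen.isClosed_compl.preimage q.continuous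
    obtain ⟨S, hS, hS1, hS2, hSeq⟩ := NoetherianSpace.exists_finite_set_isClosed_irreducible hQ
    haveI : Finite S := hS
    refine (Set.finite_range fun T : S => (hS2 T.1 T.2).genericPoint).subset fun γ hγ => ?_
    have hγQ : q γ ∉ V := fun h => hγ.1 (by
      have : q ⁻¹' {q γ} = {γ} := Set.Subset.antisymm
        (fun a ha => PointBlowUp.eq_of_restrict q V (by rw [show q a = q γ from ha]; exact h) ha)
        (Set.singleton_subset_iff.2 rfl)
      rw [← this]
      exact hγ.2.preimage q.continuous)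
    obtain ⟨T, hT, hγT⟩ := Set.mem_sUnion.1 (hSeq ▸ hγQ : γ ∈ ⋃₀ S)
    refine ⟨⟨T, hT⟩, ?_⟩
    have hg := (hS2 T hT).isGenericPoint_genericPoint (hS1 T hT)
    have hmem : (hS2 T hT).genericPoint ∈ {γ : Γ | q γ ∉ V} := hSeq ▸ Set.mem_sUnion_of_mem hg.mem hT
    by_contra hne
    have hne2 : genericPoint Γ ≠ (hS2 T hT).genericPoint := fun e => hmem (by
      rw [← e, hqgen]; exact CurveBlowUp.generic_mem hV)
    exact false_of_chain ringKrullDim_nonneg_of_nontrivial
      (ringKrullDim_stalk_lt (genericPoint_specializes _) hne2) (ringKrullDim_stalk_lt (hg.specializes hγT) hne)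
      (hdim1 γ hγ.1)
  -- their valuation rings
  have hdvr : ∀ γ ∈ W, IsDomain (Γ.presheaf.stalk γ) ∧ IsDiscreteValuationRing (Γ.presheaf.stalk γ) := fun γ hγ => by
    haveI := (hΓ γ).1
    haveI := (hΓ γ).2
    haveI := DVRVal.valuationRing_of_normal (Γ.presheaf.stalk γ) (hdim1 γ hγ.1)
    have e : ValuationRing (Γ.presheaf.stalk γ) ↔ IsPrincipalIdealRing (Γ.presheaf.stalk γ) :=
      (tfae_of_isNoetherianRing_of_isLocalRing_of_isDomain _).out 1 0
    haveI : IsPrincipalIdealRing (Γ.presheaf.stalk γ) := e.1 inferInstance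
    refine ⟨inferInstance, { not_a_field' := fun h0 => hWgen γ hγ ?_ }⟩
    have : primeAt (genericPoint_specializes γ) = maximalIdeal (Γ.presheaf.stalk γ) := by
      haveI : (primeAt (genericPoint_specializes γ)).IsPrime := Ideal.IsPrime.comap _
      exact le_antisymm (IsLocalRing.le_maximalIdeal (Ideal.IsPrime.ne_top inferInstance)) (h0 ▸ bot_le)
    exact (eq_of_primeAt_eq specializes_rfl (genericPoint_specializes γ) (by rw [this, primeAt_self])).symm
  have hfsgen : ∀ γ : Γ, (Γ.fromSpecStalk γ) (genericPoint (Spec (Γ.presheaf.stalk γ))) = genericPoint Γ := fun γ => by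
    obtain ⟨P, hP⟩ : genericPoint Γ ∈ Set.range (Γ.fromSpecStalk γ) := by
      rw [Scheme.range_fromSpecStalk]; exact genericPoint_specializes γ
    refine Specializes.antisymm ?_ (genericPoint_specializes _) |>.eq
    rw [← hP]
    exact (genericPoint_specializes P).map (Γ.fromSpecStalk γ).continuous
  -- good models
  let Good : Mdl N → Γ → Prop := fun M γ => ∀ τ : Spec (Γ.presheaf.stalk γ) ⟶ M.Z,
    τ ≫ M.g = Γ.fromSpecStalk γ ≫ q → ¬ IsClosed ({τ (closedPoint (Γ.presheaf.stalk γ))} : Set M.Z)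
  have hgood : ∀ M : Mdl N, ∀ γ ∈ W, ∃ (M' : Mdl N) (π : M'.Z ⟶ M.Z), π ≫ M.g = M'.g ∧ Good M' γ := by
    intro M γ hγ
    obtain ⟨hdom, hd⟩ := hdvr γ hγ
    haveI := hdom; haveI := hd
    let τ0 := Γ.fromSpecStalk γ ≫ q
    have hg0 : τ0 (genericPoint (Spec (Γ.presheaf.stalk γ))) = genericPoint N := by
      rw [Scheme.Hom.comp_apply, hfsgen, hqgen]
    let c := Γ.fromSpecStalk γ (closedPoint (Γ.presheaf.stalk γ))
    have hc : c = γ := Scheme.fromSpecStalk_closedPoint
    let φc := Scheme.stalkClosedPointTo (Γ.fromSpecStalk γ)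
    have hφ0 : ∀ w, Scheme.stalkClosedPointTo τ0 w = φc (q.stalkMap c w) := fun w => by
      rw [Scheme.stalkClosedPointTo_comp]; rfl
    have hφc : φc = (Γ.presheaf.stalkCongr (.of_eq hc)).hom := Scheme.stalkClosedPointTo_fromSpecStalk γ
    haveI : IsIso φc := by rw [hφc]; infer_instance
    have hτc : τ0 (closedPoint (Γ.presheaf.stalk γ)) = q γ := by rw [Scheme.Hom.comp_apply]; exact congrArg q hc
    have hx0 : IsClosed ({τ0 (closedPoint (Γ.presheaf.stalk γ))} : Set N) := by rw [hτc]; exact hγ.2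
    -- a transcendental value
    obtain ⟨z, hz⟩ : ∃ z : Γ.presheaf.stalk γ, ∀ p : Polynomial (N.presheaf.stalk (τ0 (closedPoint _))), p.Monic →
        p.eval₂ (Scheme.stalkClosedPointTo τ0).hom z ∉ maximalIdeal (Γ.presheaf.stalk γ) := by
      by_contra h
      push Not at h
      refine hγ.1 ?_
      have hint : (q.residueFieldMap c).hom.IsIntegral := fun r => by
        obtain ⟨r', rfl⟩ := IsLocalRing.residue_surjective r
        obtain ⟨p, hp, hpz⟩ := h (φc r')
        refine ⟨p.map (N.residue (q c)).hom, hp.map _, ?_⟩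
        have h1 : p.eval₂ (q.stalkMap c).hom r' ∈ maximalIdeal _ := by
          intro hu
          refine hpz ?_
          have : Scheme.stalkClosedPointTo τ0 = q.stalkMap c ≫ φc := Scheme.stalkClosedPointTo_comp _ _
          rw [this, CommRingCat.hom_comp]
          erw [← Polynomial.hom_eval₂]
          exact hu.map _
        rw [← IsLocalRing.residue_eq_zero_iff, Polynomial.hom_eval₂] at h1
        erw [Polynomial.eval₂_map]
        exact h1
      have h2 := FtPts3.isClosed_asFiber_of_isIntegral q c hint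
      have h3 : (q.fiberι (q c)) '' {q.asFiber c} = {c} := by
        rw [Set.image_singleton]
        congr 1
        simp [Scheme.Hom.asFiber]
      have h4 : IsClosedImmersion (q.fiberι (q c)) := by
        haveI : IsClosedImmersion (N.fromSpecResidueField (q c)) :=
          isClosed_singleton_iff_isClosedImmersion.1 (by rw [hc]; exact hγ.2)
        exact MorphismProperty.pullback_fst _ _ inferInstance
      have h5 := h4.base_closed.isClosedMap _ h2
      rw [h3, hc] at h5
      exact h5
    -- as a fraction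
    have hfrac : ∃ a b, Scheme.stalkClosedPointTo τ0 b ≠ 0 ∧
        Scheme.stalkClosedPointTo τ0 b * z = Scheme.stalkClosedPointTo τ0 a := by
      haveI := isIso_stalkMap_generic q hV
      have hgc : genericPoint Γ ⤳ c := genericPoint_specializes c
      obtain ⟨z', hz'⟩ := (ConcreteCategory.bijective_of_isIso φc).surjective z
      obtain ⟨w, hw⟩ := (ConcreteCategory.bijective_of_isIso (q.stalkMap (genericPoint Γ))).surjective (sp hgc z')
      obtain ⟨a, b, hb, hab⟩ := exists_frac hqgen (hgc.map q.continuous) w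
      have hinj : Function.Injective (sp hgc) :=
        IsFractionRing.injective (Γ.presheaf.stalk c) Γ.functionField
      have key : ∀ v, sp hgc (q.stalkMap c v) = q.stalkMap (genericPoint Γ) (sp (hgc.map q.continuous) v) := fun v =>
        (Scheme.Hom.stalkSpecializes_stalkMap_apply q _ _ hgc v).symm
      refine ⟨a, b, fun h0 => hb ?_, ?_⟩
      · rw [hφ0] at h0
        have h1 : q.stalkMap c b = 0 := (ConcreteCategory.bijective_of_isIso φc).injective (h0.trans (map_zero _).symm)
        have h2 := key b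
        rw [h1, map_zero] at h2
        exact (ConcreteCategory.bijective_of_isIso (q.stalkMap (genericPoint Γ))).injective
          (h2.symm.trans (map_zero _).symm)
      · rw [hφ0, hφ0, ← hz', ← map_mul]
        congr 1
        apply hinj
        rw [map_mul, key, key, ← hw, ← map_mul, mul_comm, hab]
    obtain ⟨τ, hτ⟩ := M.lifts (Spec (Γ.presheaf.stalk γ)) isNormalScheme_spec isPrincipalIdealRing_stalk_spec τ0 hg0
    obtain ⟨M', π, τ', hπ, hτ', hncl⟩ := exists_centre τ0 hg0 hx0 (ne_of_closed hx0 hη) z hz M τ hτ hfrac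
    refine ⟨M', π, hπ, fun τ'' hτ'' => ?_⟩
    have e : τ'' = τ' := by
      obtain ⟨V', hV', hiso⟩ := M'.birational
      haveI := hiso; haveI := M'.proper
      let U := τ0 ⁻¹ᵁ V'
      haveI : IsDominant U.ι := ⟨fun w => by
        rw [Scheme.Opens.range_ι]
        refine closure_mono (Set.singleton_subset_iff.2 ?_) (genericPoint_spec (Spec (Γ.presheaf.stalk γ)) |>.def.symm ▸ Set.mem_univ w :)
        show τ0 (genericPoint _) ∈ V'
        rw [hg0]
        exact CurveBlowUp.generic_mem hV'⟩
      refine ext_of_isDominant_of_isSeparated M'.g (hτ''.trans hτ'.symm) U.ι ?_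
      refine PointBlowUp.eq_of_over_open M'.g V' (by rw [Category.assoc, Category.assoc, hτ'', hτ']) fun w => ?_
      show (τ'' ≫ M'.g) (U.ι w) ∈ V'
      rw [hτ'']
      exact w.2
    rw [e]
    exact hncl
  -- all at once
  have hall : ∀ S : Finset Γ, (∀ γ ∈ S, γ ∈ W) → ∃ M : Mdl N, ∀ γ ∈ S, Good M γ := by
    intro S
    induction S using Finset.induction_on with
    | empty => exact fun _ => ⟨Mdl.refl hn hN, fun γ hγ => absurd hγ (Finset.notMem_empty γ)⟩
    | insert γ S _ ih =>
      intro hS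
      obtain ⟨M, hM⟩ := ih fun a ha => hS a (Finset.mem_insert_of_mem ha)
      obtain ⟨M', π, hπ, hM'⟩ := hgood M γ (hS γ (Finset.mem_insert_self _ _))
      refine ⟨M', fun a ha => ?_⟩
      rcases Finset.mem_insert.1 ha with rfl | ha
      · exact hM'
      intro τ hτ hcl
      haveI := M'.proper; haveI := M.proper
      haveI : IsProper π := by
        haveI : IsProper (π ≫ M.g) := by rw [hπ]; infer_instance
        exact IsProper.of_comp π M.g
      refine hM a ha (τ ≫ π) (by rw [Category.assoc, hπ, hτ]) ?_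
      have := π.isClosedMap _ hcl
      rwa [Set.image_singleton] at this
  obtain ⟨M, hM⟩ := hall hWfin.toFinset fun γ hγ => hWfin.mem_toFinset.1 hγ
  -- the graph
  obtain ⟨V₁, hV₁, hiso₁⟩ := M.birational
  haveI := hiso₁; haveI := M.proper; haveI := M.integral; haveI := M.locallyNoetherian
  let V₂ : N.Opens := V₁ ⊓ V
  haveI : IsIso (M.g ∣_ V₂) := CurveBlowUp.isIso_restrict_of_le M.g inf_le_left
  haveI : IsIso (q ∣_ V₂) := CurveBlowUp.isIso_restrict_of_le q inf_le_right
  have hV₂ : (V₂ : Set N).Nonempty := ⟨genericPoint N, CurveBlowUp.generic_mem hV₁, CurveBlowUp.generic_mem hV⟩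
  have hne : (M.g ⁻¹ᵁ V₂ : Set M.Z).Nonempty :=
    ⟨genericPoint M.Z, show M.g (genericPoint M.Z) ∈ V₂ from M.map_generic ▸ CurveBlowUp.generic_mem hV₂⟩
  obtain ⟨G, i, hi, hG, hGiso⟩ := exists_graph M.g q V₂ hne
  haveI := hi; haveI := hG; haveI := hGiso
  haveI : IsProper (pullback.fst M.g q) := MorphismProperty.pullback_fst _ _ inferInstance
  haveI : IsProper (pullback.snd M.g q) := MorphismProperty.pullback_snd _ _ inferInstance
  let p₁ := i ≫ pullback.fst M.g q
  let p₂ := i ≫ pullback.snd M.g q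
  haveI : IsProper p₁ := inferInstanceAs (IsProper (i ≫ pullback.fst M.g q))
  haveI : IsProper p₂ := inferInstanceAs (IsProper (i ≫ pullback.snd M.g q))
  have hw : p₁ ≫ M.g = p₂ ≫ q := by
    show (_ ≫ _) ≫ _ = (_ ≫ _) ≫ _
    rw [Category.assoc, Category.assoc, pullback.condition]
  have hg1 := map_generic p₁ hne
  haveI := isIso_stalkMap_generic p₁ hne
  haveI : CompactSpace M.Z := QuasiCompact.compactSpace_of_compactSpace M.g
  haveI : CompactSpace G := QuasiCompact.compactSpace_of_compactSpace p₁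
  haveI : IsLocallyNoetherian G := LocallyOfFiniteType.isLocallyNoetherian p₁
  haveI : IsNoetherian G := {}
  have hfin : ∀ x : M.Z, (p₁ ⁻¹' {x}).Finite := by
    intro x
    by_contra hinf
    -- the closed point below
    have hxc : IsClosed ({x} : Set M.Z) := by
      by_contra hx
      refine hinf (S13532.result p₁ (M.g ⁻¹ᵁ V₂) ((M.g ⁻¹ᵁ V₂).isOpen.dense hne)
        ((p₁ ⁻¹ᵁ (M.g ⁻¹ᵁ V₂)).isOpen.dense ⟨genericPoint G, show p₁ (genericPoint G) ∈ M.g ⁻¹ᵁ V₂ from
          hg1 ▸ CurveBlowUp.generic_mem hne⟩) hGiso x ?_)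
      obtain ⟨c, hc, hcc⟩ := (isClosed_closure (s := ({x} : Set M.Z))).exists_closed_singleton ⟨x, subset_closure rfl⟩
      exact le_one_of_lt_of_le_two (ringKrullDim_stalk_lt (specializes_iff_mem_closure.2 hc) fun e => hx (e ▸ hcc))
        (dim_closed_le M.g hV₁ hcc hdim)
    have hx0 : IsClosed ({M.g x} : Set N) := by
      have := M.g.isClosedMap _ hxc
      rwa [Set.image_singleton] at this
    -- a curve in the fibre
    obtain ⟨δ, hδ, hδc⟩ : ∃ δ ∈ p₁ ⁻¹' {x}, ¬ IsClosed ({δ} : Set G) := by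
      by_contra h
      push Not at h
      exact hinf (RegExt.finite_of_forall_isClosed_singleton (hxc.preimage p₁.continuous) h)
    obtain ⟨δ', hδ', hδ'c⟩ := (isClosed_closure (s := ({δ} : Set G))).exists_closed_singleton ⟨δ, subset_closure rfl⟩
    have hsp : δ ⤳ δ' := specializes_iff_mem_closure.2 hδ'
    have hδ'x : p₁ δ' = x := ((hsp.map p₁.continuous).mem_closed hxc (show p₁ δ ∈ ({x} : Set M.Z) from hδ))
    let γ := p₂ δ
    have hγW : γ ∈ W := by
      refine ⟨fun hcl => ?_, ?_⟩
      · -- otherwise the fibre curve is contracted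
        haveI : IsClosedImmersion (M.Z.fromSpecResidueField x) := isClosed_singleton_iff_isClosedImmersion.1 hxc
        haveI : IsFinite (M.Z.fromSpecResidueField x ≫ M.g) := by
          haveI : LocallyQuasiFinite (M.Z.fromSpecResidueField x ≫ M.g) :=
            locallyQuasiFinite_iff_finite_preimage_singleton.2 fun y => Set.toFinite _
          exact IsFinite.of_isProper_of_locallyQuasiFinite _
        let P := pullback (M.Z.fromSpecResidueField x ≫ M.g) q
        let pr : P ⟶ Γ := pullback.snd _ _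
        haveI : IsFinite pr := MorphismProperty.pullback_snd _ _ inferInstance
        let F := pullback p₁ (M.Z.fromSpecResidueField x)
        let ι₁ : F ⟶ G := pullback.fst _ _
        let k : F ⟶ P := pullback.lift (pullback.snd _ _) (ι₁ ≫ p₂) (by
          rw [← Category.assoc, ← pullback.condition, Category.assoc, hw, ← Category.assoc])
        haveI : IsClosedImmersion ι₁ := MorphismProperty.pullback_fst _ _ inferInstance
        haveI : IsClosedImmersion k := by
          let m : P ⟶ pullback M.g q := pullback.lift (pullback.fst _ _ ≫ M.Z.fromSpecResidueField x) (pullback.snd _ _)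
            (by rw [Category.assoc, pullback.condition])
          have hk : k ≫ m = ι₁ ≫ i := by
            apply pullback.hom_ext
            · rw [Category.assoc, pullback.lift_fst, ← Category.assoc, pullback.lift_fst, Category.assoc]
              exact pullback.condition.symm
            · rw [Category.assoc, pullback.lift_snd, pullback.lift_snd, Category.assoc]
          haveI : IsClosedImmersion (k ≫ m) := by rw [hk]; infer_instance
          haveI : IsSeparated m := by
            haveI : IsSeparated (m ≫ pullback.snd M.g q) := by rw [pullback.lift_snd]; infer_instance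
            exact IsSeparated.of_comp m (pullback.snd M.g q)
          exact IsClosedImmersion.of_comp k m
        haveI : IsFinite (k ≫ pr) := inferInstance
        have hrange : Set.range ι₁ = p₁ ⁻¹' {x} := by
          rw [show ι₁ = pullback.fst p₁ (M.Z.fromSpecResidueField x) from rfl, Scheme.Pullback.range_fst,
            Scheme.range_fromSpecResidueField]
        obtain ⟨d, rfl⟩ : δ ∈ Set.range ι₁ := hrange ▸ hδ
        obtain ⟨d', rfl⟩ : δ' ∈ Set.range ι₁ := hrange ▸ hδ'x
        have hdd : d ⤳ d' := ι₁.isEmbedding.isInducing.specializes_iff.1 hsp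
        have he : (k ≫ pr) = ι₁ ≫ p₂ := pullback.lift_snd _ _ _
        have h1 : (k ≫ pr) d = (k ≫ pr) d' := by
          have hm : (k ≫ pr) d' ∈ ({γ} : Set Γ) :=
            ((hdd.map (k ≫ pr).continuous).mem_closed hcl (by rw [he]; rfl))
          rw [Set.mem_singleton_iff.1 hm, he]; rfl
        exact hδc ((AlgSpDecent.eq_of_specializes_of_lqf (k ≫ pr) hdd h1).symm ▸ hδ'c)
      · show IsClosed ({(p₂ ≫ q) δ} : Set N)
        rw [← hw, Scheme.Hom.comp_apply, show p₁ δ = x from hδ]
        exact hx0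
    obtain ⟨hdom, hd⟩ := hdvr γ hγW
    haveI := hdom; haveI := hd
    -- the curve gives the same valuation
    haveI : IsDomain (G.presheaf.stalk δ) := inferInstance
    have hp2gen : p₂ (genericPoint G) = genericPoint Γ := eq_generic q hV (by
      rw [← Scheme.Hom.comp_apply, ← hw, Scheme.Hom.comp_apply, hg1, M.map_generic])
    have hV' : IsIso ((p₂ ≫ q).stalkMap (genericPoint G)) := by
      haveI : IsIso ((p₁ ≫ M.g) ∣_ V₂) := by rw [morphismRestrict_comp]; infer_instance
      haveI : IsIso ((p₂ ≫ q) ∣_ V₂) := hw ▸ ‹IsIso ((p₁ ≫ M.g) ∣_ V₂)›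
      exact isIso_stalkMap_generic (p₂ ≫ q) hV₂
    haveI : IsIso (p₂.stalkMap (genericPoint G)) := by
      rw [Scheme.Hom.stalkMap_comp] at hV'
      haveI : IsIso (q.stalkMap (p₂ (genericPoint G))) := by
        have hx : q (p₂ (genericPoint G)) ∈ V := by rw [hp2gen, hqgen]; exact CurveBlowUp.generic_mem hV
        haveI : IsOpenImmersion (q ∣_ V) := IsOpenImmersion.of_isIso _
        exact ((MorphismProperty.isomorphisms CommRingCat.{u}).arrow_mk_iso_iff
          (morphismRestrictStalkMap q V ⟨p₂ (genericPoint G), hx⟩)).1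
            (inferInstanceAs (IsIso ((q ∣_ V).stalkMap ⟨p₂ (genericPoint G), hx⟩)))
      exact @IsIso.of_isIso_comp_left _ _ _ _ _ (q.stalkMap (p₂ (genericPoint G))) _ _ hV'
    have hgd : genericPoint G ⤳ δ := genericPoint_specializes δ
    have hinjG : Function.Injective (sp hgd) := IsFractionRing.injective (G.presheaf.stalk δ) G.functionField
    have key : ∀ v, sp hgd (p₂.stalkMap δ v) = p₂.stalkMap (genericPoint G) (sp (hgd.map p₂.continuous) v) := fun v =>
      (Scheme.Hom.stalkSpecializes_stalkMap_apply p₂ _ _ hgd v).symm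
    haveI : IsIso (p₂.stalkMap δ) := by
      refine (ConcreteCategory.isIso_iff_bijective _).2 ⟨fun v v' h => ?_, fun w => ?_⟩
      · have h1 := congrArg (sp hgd) h
        rw [key, key] at h1
        have h2 := (ConcreteCategory.bijective_of_isIso (p₂.stalkMap (genericPoint G))).injective h1
        have hh : genericPoint Γ ⤳ γ := genericPoint_specializes γ
        have hsp2 : genericPoint Γ ⤳ p₂ (genericPoint G) := hp2gen ▸ specializes_rfl
        have h3 := congrArg (sp hsp2) h2
        rw [sp_comp, sp_comp] at h3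
        exact IsFractionRing.injective (Γ.presheaf.stalk γ) Γ.functionField h3
      · obtain ⟨y, hy⟩ := (ConcreteCategory.bijective_of_isIso (p₂.stalkMap (genericPoint G))).surjective (sp hgd w)
        obtain ⟨a, b, hb, hab⟩ := exists_frac hp2gen (hgd.map p₂.continuous) y
        obtain ⟨c, hc⟩ := ValuationRing.cond a b
        rcases hc with hc | hc
        · -- `a c = b`
          have hb0 : sp hgd (p₂.stalkMap δ b) ≠ 0 := by
            rw [key]
            exact fun h0 => hb ((ConcreteCategory.bijective_of_isIso (p₂.stalkMap (genericPoint G))).injective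
              (h0.trans (map_zero _).symm))
          have hprod : w * p₂.stalkMap δ b = p₂.stalkMap δ a := hinjG (by
            rw [map_mul, key, key, ← hy, ← map_mul, hab])
          rw [← hc, map_mul] at hprod hb0
          rw [map_mul] at hb0
          have hone : w * p₂.stalkMap δ c = 1 := by
            refine mul_left_cancel₀ (a := p₂.stalkMap δ a) (fun h0 => hb0 (by rw [h0, map_zero, zero_mul])) ?_
            rw [mul_one, mul_left_comm]; exact hprod
          have hu : IsUnit c := isUnit_of_map_unit (p₂.stalkMap δ).hom c (IsUnit.of_mul_eq_one_right w hone)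
          obtain ⟨u, rfl⟩ := hu
          refine ⟨(↑u⁻¹ : Γ.presheaf.stalk γ), ?_⟩
          calc p₂.stalkMap δ ↑u⁻¹ = (w * p₂.stalkMap δ ↑u) * p₂.stalkMap δ ↑u⁻¹ := by rw [hone, one_mul]
            _ = w := by rw [mul_assoc, ← map_mul, Units.mul_inv, map_one, mul_one]
        · -- `b c = a`
          refine ⟨c, hinjG ?_⟩
          rw [key, ← hy]
          refine congrArg _ (mul_left_cancel₀ hb ?_)
          rw [← map_mul, hc, ← hab, mul_comm]
    let σ : Spec (Γ.presheaf.stalk γ) ⟶ G := Spec.map (inv (p₂.stalkMap δ)) ≫ G.fromSpecStalk δ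
    have hσ : σ ≫ p₂ = Γ.fromSpecStalk γ := by
      rw [Category.assoc, ← Scheme.SpecMap_stalkMap_fromSpecStalk, ← Category.assoc, ← Spec.map_comp,
        IsIso.hom_inv_id, Spec.map_id, Category.id_comp]
    refine hM γ (hWfin.mem_toFinset.2 hγW) (σ ≫ p₁) (by rw [Category.assoc, hw, ← Category.assoc, hσ]) ?_
    have hσc : σ (closedPoint (Γ.presheaf.stalk γ)) = δ := by
      rw [Scheme.Hom.comp_apply, Spec_closedPoint, Scheme.fromSpecStalk_closedPoint]
    rw [Scheme.Hom.comp_apply, hσc, show p₁ δ = x from hδ]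
    exact hxc
  haveI : IsIso p₁ := PointBlowUp.isIso_of_finite_fibres p₁ M.normal hg1 hfin
  exact ⟨M, inv p₁ ≫ p₂, by rw [Category.assoc, ← hw, IsIso.inv_hom_id_assoc]⟩

end Groth.Agent.NormBlow
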